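import Cfsg.Agent.Spor.Ly3906.L.D0

set_option autoImplicit false
set_option maxRecDepth 100000000
set_option Elab.async false

namespace Cfsg.Agent.Spor.Ly3906.L

theorem rel3 : U.rel 12 [15, 15, 2, 15, 1] 0 12 = true := by decide +kernel

theorem gr5 : sub M4 (U.growI W1 [3, 2, 1, 0, 0, 1, 2, 3, 3, 2, 1, 0, 0, 1, 2, 3, 3, 2, 1, 0, 0, 1, 2, 3] (Nat.shiftLeft 1 0)) = true := by decide +kernel

theorem cl7 : band (U.closedW W1 M4) (sub (Nat.shiftLeft 1 0) M4) = true := by decide +kernel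

theorem sz8 : sizeOk 12 M4 3906 = true := by decide +kernel

theorem fx10 : U.closedW W2 (Nat.shiftLeft 1 0) = true := by decide +kernel

theorem gr12 : sub M11 (U.growI W2 [2, 2, 1, 0, 0, 1, 2, 2, 1, 0, 0, 1, 2, 2, 1, 0, 0, 1, 2, 2, 1] (Nat.shiftLeft 1 1)) = true := by decide +kernel

theorem cl14 : band (U.closedW W2 M11) (sub (Nat.shiftLeft 1 1) M11) = true := by decide +kernel

theorem sz15 : sizeOk 12 M11 3125 = true := by decide +kernel

theorem fx18 : U.closedW W17 (Nat.shiftLeft 1 1) = true := by decide +kernel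

theorem gr20 : sub M19 (U.growI W17 [0, 1, 1, 0, 0, 1, 1, 0, 0, 1, 1, 0, 0, 1, 1, 0, 0, 1, 1] (Nat.shiftLeft 1 17)) = true := by decide +kernel

theorem cl22 : band (U.closedW W17 M19) (sub (Nat.shiftLeft 1 17) M19) = true := by decide +kernel

theorem sz23 : sizeOk 12 M19 480 = true := by decide +kernel

end Cfsg.Agent.Spor.Ly3906.L
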