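import Cfsg.Agent.Spor.Prim
import Cfsg.Agent.Spor.Ly3906.Main
import Cfsg.Agent.Spor.Ly3906.L.C0
import Cfsg.Agent.Spor.TT2

set_option autoImplicit false
set_option maxRecDepth 100000000
set_option Elab.async false

namespace Cfsg.Agent.Spor.Ly3906.L

theorem hU : U.Ok 12 := U.ok_of 12 (show AllP (fun n => Net.okb 12 n = true) [n0, n1, n2, n3, n4, n5, n6, n7, n8] from AllP.cons ok0 (AllP.cons ok1 (AllP.cons ok2 (AllP.cons ok3 (AllP.cons ok4 (AllP.cons ok5 (AllP.cons ok6 (AllP.cons ok7 (AllP.cons ok8 (AllP.nil))))))))))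

theorem hfP : ∀ j < 4, U.fP [1, 3, 5, 7] j = fP j := by
  intro j hj
  interval_cases j <;> rfl
theorem eG : gsub 4 fP = U.lsub W1 := (gsub_congr hfP).symm.trans (lsub_eq_gsub U [1, 3, 5, 7])
theorem upz1 : ev (atm 4 fP) [0] = U.τ 1 := pz1
theorem upz3 : ev (atm 4 fP) [2] = U.τ 3 := pz2
theorem upz5 : ev (atm 4 fP) [4] = U.τ 5 := pz3
theorem upz7 : ev (atm 4 fP) [6] = U.τ 7 := pz4
theorem upz9 : ev (atm 4 fP) [1, 4, 0] = U.τ 9 := pz9
theorem upz11 : ev (atm 4 fP) [3, 4, 2] = U.τ 11 := pz11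
theorem upz13 : ev (atm 4 fP) [2, 4, 3] = U.τ 13 := pz13
theorem upz15 : ev (atm 4 fP) [5, 1, 5, 0, 4, 1, 4, 0] = U.τ 15 := pz15
theorem upz17 : ev (atm 4 fP) [3, 3, 1, 5, 0, 4, 1, 4, 0, 6, 4, 2, 0, 3, 6, 4, 6] = U.τ 17 := pz17
theorem eH : wsub 4 fP BW = U.lsub W2 :=
  lsub_eq_of_all₂ (show List.Forall₂ _ [[0], [2], [4]] [[1], [3], [5]] from List.Forall₂.cons (upz1.trans (one_mul _).symm) (List.Forall₂.cons (upz3.trans (one_mul _).symm) (List.Forall₂.cons (upz5.trans (one_mul _).symm) (List.Forall₂.nil))))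
theorem vpz1 : PZ U (atm 4 fP) EXU 1 := pz1
theorem vpz2 : PZ U (atm 4 fP) EXU 2 := PZ.of_inv hiv vpz1 (by decide +kernel)
theorem vpz3 : PZ U (atm 4 fP) EXU 3 := pz2
theorem vpz4 : PZ U (atm 4 fP) EXU 4 := PZ.of_inv hiv vpz3 (by decide +kernel)
theorem vpz5 : PZ U (atm 4 fP) EXU 5 := pz3
theorem vpz6 : PZ U (atm 4 fP) EXU 6 := PZ.of_inv hiv vpz5 (by decide +kernel)
theorem vpz7 : PZ U (atm 4 fP) EXU 7 := pz4
theorem vpz8 : PZ U (atm 4 fP) EXU 8 := PZ.of_inv hiv vpz7 (by decide +kernel)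
theorem vpz9 : PZ U (atm 4 fP) EXU 9 := pz9
theorem vpz10 : PZ U (atm 4 fP) EXU 10 := PZ.of_inv hiv vpz9 (by decide +kernel)
theorem vpz11 : PZ U (atm 4 fP) EXU 11 := pz11
theorem vpz12 : PZ U (atm 4 fP) EXU 12 := PZ.of_inv hiv vpz11 (by decide +kernel)
theorem vpz13 : PZ U (atm 4 fP) EXU 13 := pz13
theorem vpz14 : PZ U (atm 4 fP) EXU 14 := PZ.of_inv hiv vpz13 (by decide +kernel)
theorem vpz15 : PZ U (atm 4 fP) EXU 15 := pz15
theorem vpz16 : PZ U (atm 4 fP) EXU 16 := PZ.of_inv hiv vpz15 (by decide +kernel)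
theorem vpz17 : PZ U (atm 4 fP) EXU 17 := pz17
theorem vpz18 : PZ U (atm 4 fP) EXU 18 := PZ.of_inv hiv vpz17 (by decide +kernel)
theorem hPZU : AllP (PZ U (atm 4 fP) EXU) LU :=
  show AllP (PZ U (atm 4 fP) EXU) [1, 2, 3, 4, 5, 6, 7, 8, 9, 10, 11, 12, 13, 14, 15, 16, 17, 18] from AllP.cons vpz1 (AllP.cons vpz2 (AllP.cons vpz3 (AllP.cons vpz4 (AllP.cons vpz5 (AllP.cons vpz6 (AllP.cons vpz7 (AllP.cons vpz8 (AllP.cons vpz9 (AllP.cons vpz10 (AllP.cons vpz11 (AllP.cons vpz12 (AllP.cons vpz13 (AllP.cons vpz14 (AllP.cons vpz15 (AllP.cons vpz16 (AllP.cons vpz17 (AllP.cons vpz18 (AllP.nil))))))))))))))))))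
theorem hXN : ∀ l ∈ XN, ev (atm 4 fP) l = 1 :=
  relAll_sound hiv (W := [[15, 15, 2, 15, 1]]) (rules := [⟨[15, 15, 2, 15, 1], [], 0, true⟩]) hPZU (AllP.cons (hU.one rel3) (AllP.nil)) (by decide +kernel)
theorem reach6 : Reach (U.lsub W1) 0 M4 := (Reach.grow hU (Reach.base _ 0) gr5)
theorem orb9 : (orbS (U.lsub W1) 0).ncard = 3906 := reach6.ncard hU cl7 sz8
theorem orb9e : orbS (U.lsub W1) 0 = {c | Nat.testBit M4 c = true} := reach6.orb hU cl7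
theorem reach13 : Reach (U.lsub W2) 1 M11 := (Reach.grow hU (Reach.base _ 1) gr12)
theorem orb16 : (orbS (U.lsub W2) 1).ncard = 3125 := reach13.ncard hU cl14 sz15
theorem orb16e : orbS (U.lsub W2) 1 = {c | Nat.testBit M11 c = true} := reach13.orb hU cl14
theorem reach21 : Reach (U.lsub W17) 17 M19 := (Reach.grow hU (Reach.base _ 17) gr20)
theorem orb24 : (orbS (U.lsub W17) 17).ncard = 480 := reach21.ncard hU cl22 sz23
theorem orb24e : orbS (U.lsub W17) 17 = {c | Nat.testBit M19 c = true} := reach21.orb hU cl22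
theorem lb25 : 480 ∣ Nat.card (U.lsub W17) := dvd_card_orb orb24
theorem lb26 : 1500000 ∣ Nat.card (U.lsub W2) :=
  dvd_card_step (s := 3125) (M := 480) (B := U.lsub W17) (U.lsub_sub (by decide)) (hU.fixes fx18) orb16 lb25
theorem lb : 5859000000 ∣ Nat.card (U.lsub W1) :=
  dvd_card_step (s := 3906) (M := 1500000) (B := U.lsub W2) (U.lsub_sub (by decide)) (hU.fixes fx10) orb9 lb26

end Cfsg.Agent.Spor.Ly3906.L
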